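import Mathlib

/-!
Data for `G₂(2)` acting on 63 long root vectors, labelled as the nonisotropic points of `PSU(3, 3)`.
-/

set_option autoImplicit false

namespace CfsgLib.G2Two.Data

/-- Rows of the root elements. -/
def matRows : List (List ℕ) := [
  [8193,2,8198,264,1040,2080,64,4224,256,512,1024,2048,4096,8192],
  [4097,4098,132,4107,528,32,2112,128,8448,512,1024,2048,4096,8192],
  [1,2050,4644,9288,2065,4128,8256,128,256,4608,9216,2048,4096,8192],
  [1025,1026,340,8,272,1059,320,10880,256,8704,1024,10240,4096,8192],
  [513,2,4,184,144,160,578,128,7424,512,5120,6144,4096,8192],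
  [1,258,12,8,16,96,64,385,256,1536,1024,2048,12288,8192],
  [1,130,4,12,16,32,96,128,385,512,1536,2048,4096,12288],
  [65,2,4,8,24,40,64,184,256,578,1280,2304,7424,8192],
  [33,34,4,8,20,32,68,128,340,640,1059,2176,4096,10880],
  [1,18,4,8,16,36,72,128,256,516,1032,2065,4644,9288],
  [9,10,4,8,16,32,64,132,256,528,1024,2112,4107,8448],
  [5,2,4,8,16,32,64,128,264,512,1040,2080,4224,8198]]

/-- The vectors. -/
def vecs : List ℕ := [7671,188,10917,14318,15435,8448,7499,4,184,7998,8066,8461,11998,506,15616,4644,15610,12674,264,8197,4239,14199,11220,4096,14976,340,8149,128,15327,256,11257,12219,386,15805,7608,8,12288,4795,12555,15222,4772,14885,10880,14073,4671,9544,398,7424,12,12162,4224,12015,9288,4107,9557,8045,132,9309,502,13932,12421,348,8192]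

/-- The permutations. -/
def perms : List (List ℕ) := [
  [6,1,42,21,16,11,0,7,8,10,9,5,51,58,33,40,4,38,29,62,53,3,30,50,41,61,55,27,39,18,22,49,46,14,47,35,60,44,17,28,15,24,2,59,37,54,32,34,48,31,23,12,57,20,45,26,56,52,13,43,36,25,19],
  [34,8,30,43,14,62,47,7,1,55,26,19,49,58,4,44,33,60,18,11,50,59,42,53,28,25,10,56,24,29,2,51,46,16,0,35,38,40,36,41,37,39,22,3,15,52,32,6,48,12,20,31,45,23,57,9,27,54,13,21,17,61,5],
  [26,8,51,17,41,45,55,7,1,47,34,54,42,58,39,23,24,3,18,57,37,38,49,15,16,61,0,27,33,29,31,30,32,28,10,35,59,20,21,14,50,4,12,60,53,5,46,9,48,22,40,2,62,44,11,6,56,19,13,36,43,25,52],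
  [47,8,19,33,59,22,34,7,1,55,26,30,57,46,21,40,43,39,61,2,20,14,5,23,36,29,10,27,38,25,11,45,58,3,6,35,24,44,28,17,15,60,62,16,37,31,13,0,48,54,50,52,51,53,49,9,56,12,32,4,41,18,42],
  [20,56,22,28,38,5,53,7,27,44,37,11,51,32,36,55,17,16,18,19,0,39,2,47,43,61,40,8,3,29,42,49,13,60,50,35,14,10,4,21,26,59,30,24,9,52,58,23,48,31,34,12,45,6,57,15,1,54,46,41,33,25,62],
  [26,8,41,45,51,17,55,7,1,34,47,38,16,61,49,15,12,5,46,60,53,54,39,23,42,58,0,27,30,32,28,33,29,31,9,48,62,44,11,22,40,2,24,57,37,3,18,10,35,14,50,4,59,20,21,6,56,43,25,52,19,13,36],
  [33,58,51,40,6,5,4,48,13,39,24,19,22,8,47,59,34,50,18,11,60,44,12,36,10,61,28,32,26,29,31,30,27,0,16,35,23,43,53,9,3,55,49,37,21,45,56,14,7,42,17,2,52,38,57,41,46,54,1,15,20,25,62],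
  [58,48,41,28,16,14,13,7,35,46,32,33,51,6,5,40,4,49,34,19,44,39,54,23,42,26,25,27,3,47,45,38,10,11,18,8,36,53,31,21,15,2,24,52,20,30,9,29,1,17,50,12,43,37,22,61,56,59,0,57,60,55,62],
  [40,51,58,33,6,5,4,25,31,55,17,57,46,30,47,21,43,10,18,54,28,15,56,23,50,7,60,42,20,29,13,8,49,3,37,35,36,34,38,41,0,39,27,16,59,52,12,14,61,32,24,1,45,53,19,9,22,11,2,44,26,48,62],
  [26,12,60,46,53,5,38,15,16,61,49,55,1,34,47,7,8,17,45,41,51,54,58,23,42,39,0,27,33,29,31,30,32,28,13,52,36,43,6,25,56,19,24,37,57,18,3,14,59,10,50,20,35,4,21,11,40,44,22,48,2,9,62],
  [21,44,41,55,52,29,45,56,37,33,49,46,57,30,47,40,43,32,38,60,48,0,25,23,24,22,54,27,61,5,13,34,17,9,31,53,36,8,18,58,15,2,42,16,1,6,11,14,20,10,50,59,4,35,26,3,7,12,39,51,19,28,62],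
  [58,33,40,51,6,5,4,19,34,44,49,48,28,16,14,41,13,32,35,7,46,39,26,23,42,54,22,50,12,29,43,37,17,1,8,18,36,31,53,21,2,15,24,30,9,52,20,47,11,10,27,3,45,38,25,59,60,61,0,55,56,57,62]]

/-- A root element outside the derived subgroup. -/
def outer : ℕ := 2

/-- The root elements modulo the subgroup of index two. -/
def membership : List (Bool × List Bool) := [
  (false, [true,false,true,false,false,true,true,true,false,true,false,false,true,true]),
  (false, [false,false,true,true,true,false,false,false,false,false]),
  (true, []),
  (true, [true,false,true,false,true,true,false,false,true,false,true]),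
  (true, [true,false,false,true,false,true,true,false,true,false,true]),
  (false, [true,false,true,true,true,true,false,true,true,false,true,false]),
  (false, [false,true,false,false,true,false,true,false,false,true]),
  (true, [false,true,false,true,false,true,false,false,false,true]),
  (true, [false,false,false,true,true,true,false,false,false,true]),
  (true, [false,true,true,false,true,false,false,true,true,false,true,false]),
  (false, [false,true,false,false,true,false,false,true,false,false,true,false]),
  (false, [false,false,true,true,true,true,false,false,true,true,false,true,false])]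

/-- Conjugates of the two generators. -/
def conjWords : List (List Bool × List Bool) := [
  ([true,false,true,true,true,false,false,true,true,false,true,false], [false,true,true,true,true,false,true,false,true,false,false,false]),
  ([true,true,true,true,false,true,false,false,true,false,true,true,true], [false,false,true,false,true,true,false,false,true,false,true,true]),
  ([false,false,true,true,false,true,false,false,false,false,false,false], [true,true,true,true,true]),
  ([false,true,false,true,false,false,true,false,false,true,false,false,true,true], [false,false,true,false,true,false,false,false,true,false,true,false,false,false]),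
  ([true,true,false,false,false,true,false,false,false,true,false,false], [false,true,false,true,false,false,false,true,true,false,true]),
  ([false,true,false,false,false,true,false,true,false,true,false], [false,true,true,true,false,true,false,false,true,true,false,false]),
  ([true,true,false,false,true,false,false,true,true,true,false], [false,true,true,false,true,true,false,false,true,false,false,true]),
  ([true,true,true,true,false,true,false,false,true,false,false], [true,false,false,true,false,false,true,false,true,true,false,true]),
  ([false,true,true,true,true,false,true,false,true,false,true], [true,true,false,true,true,true,false]),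
  ([false,false,true,false,true,false,true,true,false,false,false,true], [true,false,true,true,false,true,false,true,false,false,true,true]),
  ([false,true,false,true,false,false,false,true,true,true,false], [true,true,true,false,true,true,true,true,true,false,false,false]),
  ([false,true,false,false,true,false,true,false,false,true,false], [false,true,false,false,true,true])]

/-- The generators as commutators. -/
def commWords : List (List (List Bool)) := [
  [[true,false,true,true,true,false,true,false,false,true,false,true,false,false], [false,true,true,true,false,true,false,false,true,false,false], [false,true,true], [true,true,true,true,false,false,false,false,false,false]],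
  [[false,true,false,false,false,true,false,true,false,true,false,false,true], [false,true,true,true,true,false,true,true,false,true,false,false], [true,true,false,true,false,true,false,false,false,false,true], [true,false,true,true,true,false,true,false,true,false,false,false]]]

/-- The two generators in the root elements. -/
def genWords : List (List (Fin 12)) := [
  [1,11,4,7,6],
  [2,11,4,7,4]]

/-- The unit vectors as sums. -/
def span : List (List ℕ) := [
  [0,1,4,7,11,18,29],
  [2,12,13,17,22,26],
  [7],
  [18,29],
  [0,1,4,7,9,11,13,18,26],
  [1,7,9,12,13,17,29],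
  [1,2,7,12,17,22,26,29],
  [0,1,4,7,11,12,17,26],
  [29],
  [0,1,2,7,9,22,29],
  [2,13,17,18,26],
  [1,4,7,13,18,22,26],
  [2,7,11,13,17,22],
  [0,1,4,29]]

end CfsgLib.G2Two.Data
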